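import Cfsg.Agent.Lib.Chev.CubicE6.Sweep

/-!
One step: a further column is fixed by root elements.
-/

set_option autoImplicit false
set_option maxRecDepth 100000

namespace CfsgLib.CubicE6

open Cfsg.Lie CfsgLib.Chev
open CfsgLib.ChevOrth (SM toM)

/-- A root element fixing the columns. -/
def fixes (S : List (Fin 27)) (r : ℕ) : Bool :=
  decide (r < 72) && (A r).all fun a => !S.contains a.2.1

/-- A path of root elements from a coordinate to the column. -/
def pathOK (S : List (Fin 27)) (μ : Fin 27) : Fin 27 → List ℕ → Bool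
  | x, [] => decide (x = μ)
  | x, r :: rs =>
    match (A r).filter fun a => decide (a.2.1 = x) with
    | [(i, _, c)] => fixes S r && decide (c = 1 ∨ c = -1) &&
        decide ((A r).filter (fun a => decide (a.1 = i)) = [(i, x, c)]) && pathOK S μ i rs
    | _ => false

/-- The root elements matching the column. -/
def unipOK (S : List (Fin 27)) (μ : Fin 27) (U : List (ℕ × Fin 27 × ℤ)) : Bool :=
  decide (U.map fun u => u.2.1).Nodup &&
  U.all (fun u => fixes S u.1 && decide (u.2.1 ≠ μ) && (link μ u.2.1).isEmpty &&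
    decide (u.2.2 = 1 ∨ u.2.2 = -1) &&
    decide ((A u.1).filter (fun a => decide (a.1 = u.2.1)) = [(u.2.1, μ, u.2.2)]) &&
    (A u.1).all fun a => decide (a.1 = u.2.1) || !(link μ a.1).isEmpty) &&
  (List.finRange 27).all fun x => decide (x = μ) || !(link μ x).isEmpty || !alive S μ x ||
    (U.map fun u => u.2.1).contains x

lemma link_self : ((List.finRange 27).all fun a => (link a a).isEmpty) = true := by
  decide +kernel

/-- The triangles through the third index of a triangle at the column. -/
lemma det_ok : ((List.finRange 27).all fun μ => (List.finRange 27).all fun x =>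
    (link μ x).all fun k =>
      match (bT.filter fun t => decide (t.2.2.1 = k.1)).filter fun t =>
          decide (t.1 = μ) || decide (t.2.1 = μ) with
      | [(p, q, _, s)] => (decide (p = μ ∧ q = x) || decide (p = x ∧ q = μ)) &&
          decide (s = 1 ∨ s = -1) &&
          ((bT.filter fun t => decide (t.2.2.1 = k.1)).filter fun t =>
            !(decide (t.1 = μ) || decide (t.2.1 = μ))).all fun t =>
              (link μ t.1).isEmpty && (link μ t.2.1).isEmpty
      | _ => false) = true := by decide +kernel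

variable {K : Type*} [Field K]

lemma pB_e (v : Fin 27 → K) (k : Fin 27) :
    pB v (e k) =
      ((bT.filter fun t => decide (t.2.2.1 = k)).map fun t =>
        (t.2.2.2 : K) * (v t.1 * v t.2.1)).sum := by
  unfold pB
  induction bT with
  | nil => simp [ev]
  | cons t L ih =>
    rw [ev_cons, ih]
    by_cases h : t.2.2.1 = k
    · rw [List.filter_cons_of_pos (by simp [h]), List.map_cons, List.sum_cons, h, e_self, mul_one]
    · rw [List.filter_cons_of_neg (by simp [h]), e_ne h, mul_zero, mul_zero, zero_add]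

lemma sum_filter_split {α : Type*} (p : α → Bool) (f : α → K) (L : List α) :
    (L.map f).sum = ((L.filter p).map f).sum + ((L.filter fun a => !p a).map f).sum := by
  induction L with
  | nil => simp
  | cons a L ih => cases h : p a <;> simp [h, ih] <;> ring

/-- A singular vector is determined by the coordinates away from the column. -/
lemma singular_ext {μ : Fin 27} {v w : Fin 27 → K} (hv : ∀ z, pB v z = 0) (hw : ∀ z, pB w z = 0)
    (hμ : v μ ≠ 0) (hout : ∀ x, link μ x = [] → v x = w x) : v = w := by
  funext x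
  by_cases hx : link μ x = []
  · exact hout x hx
  obtain ⟨k, hk⟩ := List.exists_mem_of_ne_nil _ hx
  have h0 := List.all_eq_true.1 (List.all_eq_true.1 (List.all_eq_true.1 det_ok μ
    (List.mem_finRange μ)) x (List.mem_finRange x)) k hk
  split at h0
  next p q _ s hl =>
    simp only [Bool.and_eq_true, Bool.or_eq_true, decide_eq_true_eq, List.all_eq_true,
      List.isEmpty_iff] at h0
    obtain ⟨⟨hpq, hs⟩, hrest⟩ := h0
    have h1 := hv (e k.1)
    have h2 := hw (e k.1)
    rw [pB_e, sum_filter_split (fun t => decide (t.1 = μ) || decide (t.2.1 = μ)), hl] at h1 h2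
    rw [List.map_congr_left (l := ((bT.filter fun t => decide (t.2.2.1 = k.1)).filter fun t =>
        !(decide (t.1 = μ) || decide (t.2.1 = μ))))
      (f := fun t : Term => (t.2.2.2 : K) * (v t.1 * v t.2.1))
      (g := fun t : Term => (t.2.2.2 : K) * (w t.1 * w t.2.1))
      (fun t ht => by rw [hout _ (hrest t ht).1, hout _ (hrest t ht).2])] at h1
    simp only [List.map_cons, List.map_nil, List.sum_cons, List.sum_nil, add_zero] at h1 h2
    have hμ' : v μ = w μ :=
      hout μ (List.isEmpty_iff.1 (List.all_eq_true.1 link_self μ (List.mem_finRange μ)))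
    have h3 : (s : K) * v μ * (v x - w x) = 0 := by
      rcases hpq with ⟨rfl, rfl⟩ | ⟨rfl, rfl⟩
      · linear_combination h1 - h2 - (s : K) * w q * hμ'
      · linear_combination h1 - h2 - (s : K) * w p * hμ'
    exact sub_eq_zero.1
      ((mul_eq_zero.1 h3).resolve_left (mul_ne_zero (cast_sign_ne_zero hs) hμ))
  next => exact absurd h0 Bool.false_ne_true

lemma act_xE_fix {S : List (Fin 27)} {r : ℕ} (hr : fixes S r = true) (t : K) {s : Fin 27}
    (hs : s ∈ S) : act (xE r t) (e s) = e s := by
  rw [act_xE]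
  have : nil6 r (e s : Fin 27 → K) = 0 := by
    funext i
    rw [nil6, toM_mulVec]
    refine List.sum_eq_zero fun z hz => ?_
    obtain ⟨a, ha, rfl⟩ := List.mem_map.1 hz
    rw [fixes, Bool.and_eq_true, List.all_eq_true] at hr
    have h := hr.2 a (List.mem_filter.1 ha).1
    rw [Bool.not_eq_true', List.contains_eq_mem, decide_eq_false_iff_not] at h
    rw [e_ne (fun hh : a.2.1 = s => h (hh ▸ hs)), mul_zero]
  rw [this, smul_zero, add_zero]

lemma Fix.mul {S : List (Fin 27)} {g h : GL (Fin 27) K} (hf : Fix S g)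
    (hh : ∀ s ∈ S, act h (e s) = e s) : Fix S (h * g) := fun s hs => by
  obtain ⟨c, hc0, hc⟩ := hf s hs
  exact ⟨c, hc0, by rw [act_mul, hc, act_smul, hh s hs]⟩

lemma path_spec {S : List (Fin 27)} {μ : Fin 27} (rs : List ℕ) :
    ∀ (x : Fin 27) (w : Fin 27 → K), pathOK S μ x rs = true → w x ≠ 0 →
      ∃ h ∈ rootGroup K, (∀ s ∈ S, act h (e s) = e s) ∧ act h w μ ≠ 0 := by
  induction rs with
  | nil =>
    intro x w h hw
    rw [pathOK, decide_eq_true_eq] at h
    exact ⟨1, one_mem _, fun s _ => act_one _, by rwa [act_one, ← h]⟩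
  | cons r rs ih =>
    intro x w h hw
    rw [pathOK] at h
    split at h
    next i _ c hl =>
      simp only [Bool.and_eq_true, decide_eq_true_eq] at h
      obtain ⟨⟨⟨hr, hc⟩, hrow⟩, hnext⟩ := h
      have hr' : r < 72 := of_decide_eq_true (Bool.and_eq_true_iff.1 hr).1
      by_cases hi : w i = 0
      · have hw' : act (xE r (1 : K)) w i ≠ 0 := by
          rw [act_xE, Pi.add_apply, Pi.smul_apply, nil6, toM_mulVec, hrow, hi]
          simp [hw, cast_sign_ne_zero hc]
        obtain ⟨h', hm, hf, hn⟩ := ih i _ hnext hw'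
        exact ⟨h' * xE r 1, mul_mem hm (xE_mem_rootGroup hr' 1),
          fun s hs => by rw [act_mul, act_xE_fix hr 1 hs, hf s hs], by rwa [act_mul]⟩
      · exact ih i w hnext hi
    next => exact absurd h Bool.false_ne_true

/-- The product of the matching root elements. -/
noncomputable def uProd (w : Fin 27 → K) (μ : Fin 27) (U : List (ℕ × Fin 27 × ℤ)) : GL (Fin 27) K :=
  (U.map fun u => xE u.1 ((u.2.2 : K) * (w u.2.1 / w μ))).prod

lemma uProd_spec {S : List (Fin 27)} {μ : Fin 27} (w : Fin 27 → K)
    (U : List (ℕ × Fin 27 × ℤ)) (hnd : (U.map fun u => u.2.1).Nodup)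
    (hU : ∀ u ∈ U, (fixes S u.1 = true ∧ u.2.1 ≠ μ ∧ link μ u.2.1 = [] ∧
      (u.2.2 = 1 ∨ u.2.2 = -1) ∧
      (A u.1).filter (fun a => decide (a.1 = u.2.1)) = [(u.2.1, μ, u.2.2)] ∧
      ∀ a ∈ A u.1, a.1 = u.2.1 ∨ link μ a.1 ≠ [])) :
    uProd w μ U ∈ rootGroup K ∧ (∀ s ∈ S, act (uProd w μ U) (e s) = e s) ∧
      ∀ i, link μ i = [] → act (uProd w μ U) (e μ) i =
        if i = μ then 1 else if i ∈ U.map (fun u => u.2.1) then w i / w μ else 0 := by
  induction U with
  | nil =>
    refine ⟨one_mem _, fun s _ => act_one _, fun i _ => ?_⟩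
    rw [show uProd w μ [] = 1 from rfl, act_one]
    by_cases h : i = μ
    · subst h; simp [e_self]
    · rw [if_neg h, e_ne h]; simp
  | cons u U ih =>
    rw [List.map_cons, List.nodup_cons] at hnd
    obtain ⟨hm, hf, hv⟩ := ih hnd.2 fun a ha => hU a (List.mem_cons_of_mem _ ha)
    obtain ⟨hr, hne, -, hc, hrow, hoth⟩ := hU u (List.mem_cons_self ..)
    have hr' : u.1 < 72 := of_decide_eq_true (Bool.and_eq_true_iff.1 hr).1
    have e1 : uProd w μ (u :: U) = xE u.1 ((u.2.2 : K) * (w u.2.1 / w μ)) * uProd w μ U :=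
      List.prod_cons
    refine ⟨e1 ▸ mul_mem (xE_mem_rootGroup hr' _) hm,
      fun s hs => by rw [e1, act_mul, hf s hs, act_xE_fix hr _ hs], fun i hi => ?_⟩
    have hμ : link μ μ = [] :=
      List.isEmpty_iff.1 (List.all_eq_true.1 link_self μ (List.mem_finRange μ))
    rw [e1, act_mul, act_xE, Pi.add_apply, Pi.smul_apply, hv i hi]
    by_cases hiu : i = u.2.1
    · subst hiu
      rw [nil6, toM_mulVec, hrow]
      simp only [List.map_cons, List.map_nil, List.sum_cons, List.sum_nil, add_zero, if_neg hne,
        if_neg hnd.1, List.mem_cons, true_or, if_true, zero_add, smul_eq_mul]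
      rw [hv μ hμ, if_pos rfl]
      linear_combination (w u.2.1 / w μ) * cast_sign_sq (K := K) hc
    · rw [nil6, toM_mulVec, List.filter_eq_nil_iff.2, List.map_nil, List.sum_nil, smul_zero,
        add_zero]
      · simp only [List.map_cons, List.mem_cons, hiu, false_or]
      intro a ha hd
      rw [decide_eq_true_eq] at hd
      rcases hoth a ha with h | h
      · exact hiu (hd ▸ h)
      · exact h (hd ▸ hi)

end CfsgLib.CubicE6
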