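import Mathlib

/-!
The data of the cubic form invariant under the minimal representation of type E6 (generated):
its monomials, the translation to three matrices, the order of a reduction to the torus, and the
parameters of the torus.
-/

set_option autoImplicit false

namespace CfsgLib.CubicE6

/-- A column, the kind of the reason for its being nonzero with two indices, the paths moving a
nonzero coordinate to the column, and the root elements matching the column. -/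
abbrev Step : Type := ℕ × ℕ × ℕ × ℕ × List (ℕ × List ℕ) × List (ℕ × ℕ × ℤ)

/-- The monomials of the invariant cubic form. -/
def triData : List (ℕ × ℕ × ℕ × ℤ) :=
  [(0, 12, 26, 1), (0, 15, 25, -1), (0, 17, 24, 1), (0, 19, 23, -1), (0, 21, 22, 1),
    (1, 10, 26, -1), (1, 13, 25, 1), (1, 16, 24, -1), (1, 18, 23, 1), (1, 20, 22, -1),
    (2, 8, 26, 1), (2, 11, 25, -1), (2, 14, 24, 1), (2, 18, 21, -1), (2, 19, 20, 1),
    (3, 6, 26, -1), (3, 9, 25, 1), (3, 14, 23, -1), (3, 16, 21, 1), (3, 17, 20, -1),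
    (4, 5, 26, 1), (4, 7, 25, -1), (4, 14, 22, 1), (4, 16, 19, -1), (4, 17, 18, 1),
    (5, 9, 24, -1), (5, 11, 23, 1), (5, 13, 21, -1), (5, 15, 20, 1), (6, 7, 24, 1),
    (6, 11, 22, -1), (6, 13, 19, 1), (6, 15, 18, -1), (7, 8, 23, -1), (7, 10, 21, 1),
    (7, 12, 20, -1), (8, 9, 22, 1), (8, 13, 17, -1), (8, 15, 16, 1), (9, 10, 19, -1),
    (9, 12, 18, 1), (10, 11, 17, 1), (10, 14, 15, -1), (11, 12, 16, -1), (12, 13, 14, 1)]

/-- The position and sign among the three matrices. -/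
def codeData : List (ℕ × ℤ) :=
  [(0, 1), (1, 1), (20, 1), (23, 1), (17, -1), (26, 1), (16, 1), (2, 1), (15, -1), (19, -1),
    (3, 1), (22, -1), (4, 1), (14, 1), (25, -1), (11, -1), (13, -1), (10, 1), (12, 1), (9, -1),
    (6, 1), (7, 1), (5, -1), (18, -1), (21, -1), (24, -1), (8, 1)]

/-- The columns in the order in which they are fixed. -/
def stepData : List Step :=
  [(0, 0, 0, 0, [(0, []), (1, [56]), (2, [57]), (3, [58]), (4, [61]), (5, [59]), (6, [62]), (7, [60]), (8, [64]), (9, [63]), (10, [67]), (11, [65]), (12, [67, 56]), (13, [68]), (14, [66]), (15, [68, 56]), (16, [69]), (17, [69, 56]), (18, [70]), (19, [70, 56]), (20, [71]), (21, [71, 56]), (22, [70, 57]), (23, [71, 57]), (24, [71, 58]), (25, [71, 59]), (26, [71, 60])], [(15, 1, 1), (14, 2, -1), (13, 3, 1), (10, 4, -1), (12, 5, -1), (9, 6, 1), (11, 7, 1), (7, 8, -1), (8, 9, -1), (4, 10, 1), (6, 11, 1), (3, 13, -1), (5, 14, -1),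 (2, 16, 1), (1, 18, -1), (0, 20, 1)]),
    (1, 0, 0, 0, [(1, []), (2, [42]), (3, [43]), (4, [50]), (5, [44]), (6, [51]), (7, [45]), (8, [53]), (9, [52]), (10, [53, 42]), (11, [54]), (13, [54, 42]), (14, [55]), (16, [55, 42]), (18, [55, 43]), (20, [55, 50])], [(56, 0, 1), (29, 2, 1), (28, 3, -1), (21, 4, 1), (27, 5, 1), (20, 6, -1), (26, 7, -1), (18, 8, 1), (19, 9, 1), (17, 11, -1), (16, 14, 1)]),
    (2, 0, 0, 0, [(2, []), (3, [39]), (4, [47]), (5, [40]), (6, [48]), (7, [41]), (8, [48, 39]), (9, [49]), (11, [49, 39]), (14, [49, 40])], [(57, 0, -1), (42, 1, 1), (32, 3, 1), (24, 4, 1), (31, 5, -1), (23, 6, -1), (30, 7, 1), (22, 9, 1)]),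
    (3, 0, 0, 0, [(3, []), (4, [46]), (5, [37]), (6, [46, 37]), (7, [38]), (9, [46, 38])], [(58, 0, 1), (43, 1, -1), (39, 2, 1), (25, 4, 1), (34, 5, 1), (33, 7, -1)]),
    (6, 1, 3, 0, [(6, []), (9, [36])], [(62, 0, 1), (51, 1, -1), (48, 2, -1), (37, 4, 1), (46, 5, 1), (35, 9, 1)]),
    (8, 1, 2, 0, [(8, [])], [(64, 0, -1), (53, 1, 1), (40, 4, 1), (47, 5, -1)]),
    (10, 1, 1, 0, [(10, [])], [(67, 0, 1), (44, 4, 1), (50, 5, 1)]),
    (12, 1, 0, 0, [(12, [])], [(59, 4, 1), (61, 5, 1)]),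
    (26, 2, 0, 12, [], [(71, 7, 1), (70, 9, 1), (69, 11, 1), (66, 13, 1), (68, 14, 1), (55, 15, -1), (65, 16, 1), (54, 17, -1), (63, 18, 1), (52, 19, -1), (60, 20, 1), (45, 21, -1), (49, 22, -1), (41, 23, 1), (38, 24, -1), (36, 25, 1)]),
    (7, 0, 0, 0, [(7, [])], []), (4, 1, 7, 0, [(4, [])], []), (5, 2, 26, 4, [], []),
    (9, 0, 0, 0, [(9, [])], []), (11, 0, 0, 0, [(11, [])], []), (13, 0, 0, 0, [(13, [])], []),
    (14, 2, 12, 13, [], []), (15, 2, 10, 14, [], []), (16, 2, 8, 15, [], []),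
    (17, 2, 8, 13, [], []), (18, 2, 6, 15, [], []), (19, 2, 6, 13, [], []),
    (20, 2, 2, 19, [], []), (21, 2, 2, 18, [], []), (22, 2, 0, 21, [], []),
    (23, 2, 0, 19, [], []), (24, 2, 0, 17, [], []), (25, 2, 0, 15, [], [])]

/-- The exponents of the torus parameters. -/
def expData : List (List ℤ) :=
  [[1, 0, 0, 0, 0, 0, 0, 0, 0, 0, 0, 0, 0, 0, 0, 0, 0, 0, 0, 0, 0, 0, 0, 0, 0, 0, 0],
    [0, 0, 0, 1, 0, 1, 0, 0, 0, 1, 0, 0, 0, 0, 0, 0, 0, 0, 0, 0, 0, 0, 0, 0, 0, 0, 0],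
    [1, 1, 0, 0, 0, 0, 0, 0, 0, 0, 0, 0, 0, 0, 0, 0, 0, 0, 0, 0, 0, 0, 0, 0, 0, 0, 0],
    [1, 1, 1, 0, 0, 0, 0, 0, 0, 0, 0, 0, 0, 0, 0, 0, 0, 0, 0, 0, 0, 0, 0, 0, 0, 0, 0],
    [1, 1, 1, 0, 0, -1, 0, 0, 0, -1, 0, 0, 0, 0, 0, 0, 0, 0, 0, 0, 0, 0, 0, 0, 0, 0, 0],
    [1, 1, 1, -1, 0, -1, 0, 0, 0, -2, 0, 0, 0, 0, 0, 0, 0, 0, 0, 0, 0, 0, 0, 0, 0, 0, 0]]

/-- Writing a coordinate vector by triangles and parameters. -/
def certData : List (List (ℕ × ℤ)) :=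
  [[], [], [], [], [(0, -1), (7, -1), (11, -1), (16, 1), (20, 1), (25, 1), (43, 1)], [],
    [(0, -1), (7, -1), (11, -1), (15, 1), (16, 1), (25, 1), (43, 1)],
    [(0, 1), (7, 1), (11, 1), (16, -2), (20, -1), (21, 1), (25, -1), (43, -1)],
    [(2, -1), (6, -1), (16, 1), (25, 1), (37, 1)], [],
    [(2, -1), (11, -1), (16, 1), (25, 1), (41, 1)], [(11, 1), (16, -1)],
    [(7, -1), (11, -1), (16, 1), (25, 1), (43, 1)], [(6, 1), (16, -1)], [(12, 1), (25, -1)],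
    [(1, 1), (16, -1)], [(7, 1), (25, -1)], [(2, 1), (25, -1)],
    [(8, 1), (12, 1), (17, -1), (25, -1)], [(3, 1), (12, 1), (17, -1), (25, -1)],
    [(2, -1), (19, 1), (25, 1)], [(7, -1), (18, 1), (25, 1)],
    [(4, 1), (7, 1), (18, -1), (25, -1)], [(12, -1), (17, 1), (25, 1)], [(25, 1)], [(16, 1)],
    [(0, 1), (7, 1), (11, 1), (16, -1), (25, -1), (43, -1)]]

end CfsgLib.CubicE6
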