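import Cfsg.Agent.Lib.Chev.CubicE6.Data
import Cfsg.Agent.Lib.Chev.StMinE6
import Cfsg.Prelude.Def_E6

/-!
The cubic form, its two polar forms, and the group preserving it. The root elements preserve it.
-/

set_option autoImplicit false
set_option maxRecDepth 100000

namespace CfsgLib.CubicE6

open Cfsg.Lie CfsgLib.Chev
open CfsgLib.ChevOrth (SM toM)

/-- A coordinate from a code. -/
def cd (x : ℕ) : Fin 27 := ⟨x % 27, Nat.mod_lt _ (by omega)⟩

/-- Three coordinates and a coefficient. -/
abbrev Term : Type := Fin 27 × Fin 27 × Fin 27 × ℤ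

/-- The monomials. -/
def tri : List Term := triData.map fun t => (cd t.1, cd t.2.1, cd t.2.2.1, t.2.2.2)

/-- The terms of the first polar. -/
def bT : List Term :=
  tri.flatMap fun t => [(t.1, t.2.1, t.2.2.1, t.2.2.2), (t.2.1, t.2.2.1, t.1, t.2.2.2),
    (t.1, t.2.2.1, t.2.1, t.2.2.2)]

/-- The terms of the trilinear form. -/
def ordT : List Term :=
  bT.flatMap fun t => [(t.1, t.2.1, t.2.2.1, t.2.2.2), (t.2.1, t.1, t.2.2.1, t.2.2.2)]

/-- The third indices of the triangles through two indices. -/
def link (a b : Fin 27) : List (Fin 27 × ℤ) :=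
  (ordT.filter fun t => decide (t.1 = a) && decide (t.2.1 = b)).map fun t => (t.2.2.1, t.2.2.2)

section

variable {K : Type*} [CommRing K]

/-- The value of a list of terms at three vectors. -/
def ev (L : List Term) (u v w : Fin 27 → K) : K :=
  (L.map fun t => (t.2.2.2 : K) * (u t.1 * v t.2.1 * w t.2.2.1)).sum

/-- The cubic form. -/
def cub (v : Fin 27 → K) : K := ev tri v v v

/-- The polar, quadratic in the first vector. -/
def pB (v w : Fin 27 → K) : K := ev bT v v w

/-- The trilinear form. -/
def pC (u v w : Fin 27 → K) : K := ev ordT u v w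

lemma ev_nil (u v w : Fin 27 → K) : ev [] u v w = 0 := rfl

lemma ev_cons (t : Term) (L : List Term) (u v w : Fin 27 → K) :
    ev (t :: L) u v w = (t.2.2.2 : K) * (u t.1 * v t.2.1 * w t.2.2.1) + ev L u v w := rfl

lemma ev_append (L M : List Term) (u v w : Fin 27 → K) :
    ev (L ++ M) u v w = ev L u v w + ev M u v w := by
  simp [ev]

lemma cub_add_smul (v w : Fin 27 → K) (s : K) :
    cub (v + s • w) = cub v + s * pB v w + s ^ 2 * pB w v + s ^ 3 * cub w := by
  unfold cub pB bT
  induction tri with
  | nil => simp [ev]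
  | cons t L ih =>
    simp only [List.flatMap_cons, ev_append, ev_cons, ev_nil, ih, Pi.add_apply, Pi.smul_apply,
      smul_eq_mul]
    ring

lemma pB_add (v u w : Fin 27 → K) : pB (v + u) w = pB v w + pB u w + pC v u w := by
  unfold pB pC ordT
  induction bT with
  | nil => simp [ev]
  | cons t L ih =>
    simp only [List.flatMap_cons, ev_append, ev_cons, ev_nil, ih, Pi.add_apply]
    ring

lemma pB_smul (v w : Fin 27 → K) (a : K) : pB (a • v) w = a ^ 2 * pB v w := by
  unfold pB
  induction bT with
  | nil => simp [ev]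
  | cons t L ih =>
    simp only [ev_cons, ih, Pi.smul_apply, smul_eq_mul]
    ring

lemma ev_smul₁ (L : List Term) (u v w : Fin 27 → K) (a : K) :
    ev L (a • u) v w = a * ev L u v w := by
  induction L with
  | nil => simp [ev]
  | cons t L ih =>
    simp only [ev_cons, ih, Pi.smul_apply, smul_eq_mul]
    ring

lemma ev_smul₂ (L : List Term) (u v w : Fin 27 → K) (a : K) :
    ev L u (a • v) w = a * ev L u v w := by
  induction L with
  | nil => simp [ev]
  | cons t L ih =>
    simp only [ev_cons, ih, Pi.smul_apply, smul_eq_mul]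
    ring

lemma ev_smul₃ (L : List Term) (u v w : Fin 27 → K) (a : K) :
    ev L u v (a • w) = a * ev L u v w := by
  induction L with
  | nil => simp [ev]
  | cons t L ih =>
    simp only [ev_cons, ih, Pi.smul_apply, smul_eq_mul]
    ring

/-- The basis vectors. -/
def e (a : Fin 27) : Fin 27 → K := Pi.single a 1

lemma e_self (a : Fin 27) : (e a : Fin 27 → K) a = 1 := Pi.single_eq_same _ _

lemma e_ne {a b : Fin 27} (h : b ≠ a) : (e a : Fin 27 → K) b = 0 := Pi.single_eq_of_ne h _

lemma ord_swap :
    (ordT.map fun t => ((t.1, t.2.2.1, t.2.1, t.2.2.2) : Term)).isPerm ordT = true := by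
  decide +kernel

lemma ev_perm {L M : List Term} (h : L.Perm M) (u v w : Fin 27 → K) :
    ev L u v w = ev M u v w := (h.map _).sum_eq

lemma pC_swap (u v w : Fin 27 → K) : pC u v w = pC u w v := by
  rw [pC, pC, ← ev_perm (List.isPerm_iff.1 ord_swap) u w v]
  simp only [ev, List.map_map]
  refine congrArg List.sum (List.map_congr_left fun t _ => ?_)
  simp only [Function.comp_apply]
  ring

/-- The trilinear form at two basis vectors. -/
lemma pC_e_e (a b : Fin 27) (w : Fin 27 → K) :
    pC (e a) (e b) w = ((link a b).map fun k => (k.2 : K) * w k.1).sum := by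
  unfold pC link
  induction ordT with
  | nil => simp [ev]
  | cons t L ih =>
    rw [ev_cons, ih]
    by_cases h1 : t.1 = a
    · by_cases h2 : t.2.1 = b
      · rw [List.filter_cons_of_pos (by simp [h1, h2]), List.map_cons, List.map_cons,
          List.sum_cons, h1, h2, e_self, e_self, one_mul, one_mul]
      · rw [List.filter_cons_of_neg (by simp [h2]), e_ne h2, mul_zero, zero_mul, mul_zero,
          zero_add]
    · rw [List.filter_cons_of_neg (by simp [h1]), e_ne h1, zero_mul, zero_mul, mul_zero, zero_add]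

lemma bT_distinct : bT.all (fun t => decide (t.1 ≠ t.2.1)) = true := by decide +kernel

lemma singular_e (a : Fin 27) (w : Fin 27 → K) : pB (e a) w = 0 := by
  refine List.sum_eq_zero fun x hx => ?_
  obtain ⟨t, ht, rfl⟩ := List.mem_map.1 hx
  have h := of_decide_eq_true (List.all_eq_true.1 bT_distinct t ht)
  by_cases h1 : t.1 = a
  · rw [e_ne (fun h2 => h (h1.trans h2.symm)) (a := a) (b := t.2.1), mul_zero, zero_mul, mul_zero]
  · rw [e_ne h1, zero_mul, zero_mul, mul_zero]

end

variable {K : Type*} [Field K]

/-- The group preserving the cubic form. -/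
def cubGroup (K : Type*) [Field K] : Subgroup (GL (Fin 27) K) := funStab K cub

/-- The action on vectors. -/
def act (g : GL (Fin 27) K) (v : Fin 27 → K) : Fin 27 → K :=
  (g : Matrix (Fin 27) (Fin 27) K).mulVec v

lemma act_mul (g h : GL (Fin 27) K) (v : Fin 27 → K) : act (g * h) v = act g (act h v) := by
  rw [act, act, act, Units.val_mul, Matrix.mulVec_mulVec]

lemma act_one (v : Fin 27 → K) : act 1 v = v := Matrix.one_mulVec v

lemma act_smul (g : GL (Fin 27) K) (a : K) (v : Fin 27 → K) :
    act g (a • v) = a • act g v := Matrix.mulVec_smul _ _ _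

lemma act_add (g : GL (Fin 27) K) (v w : Fin 27 → K) :
    act g (v + w) = act g v + act g w := Matrix.mulVec_add _ _ _

lemma act_inv_act (g : GL (Fin 27) K) (v : Fin 27 → K) : act g⁻¹ (act g v) = v := by
  rw [← act_mul, inv_mul_cancel, act_one]

lemma act_act_inv (g : GL (Fin 27) K) (v : Fin 27 → K) : act g (act g⁻¹ v) = v := by
  rw [← act_mul, mul_inv_cancel, act_one]

lemma act_injective (g : GL (Fin 27) K) : Function.Injective (act g) :=
  Function.LeftInverse.injective (act_inv_act g)

lemma mem_cubGroup {g : GL (Fin 27) K} : g ∈ cubGroup K ↔ ∀ v, cub (act g v) = cub v := Iff.rfl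

variable (hK : ∃ t : K, t ≠ 0 ∧ t ≠ 1)
include hK

lemma pB_act {g : GL (Fin 27) K} (hg : g ∈ cubGroup K) (v w : Fin 27 → K) :
    pB (act g v) (act g w) = pB v w := by
  obtain ⟨t, h0, h1⟩ := hK
  have key : ∀ s : K, s * pB (act g v) (act g w) + s ^ 2 * pB (act g w) (act g v) =
      s * pB v w + s ^ 2 * pB w v := by
    intro s
    have e1 := mem_cubGroup.1 hg (v + s • w)
    rw [act_add, act_smul, cub_add_smul, cub_add_smul, mem_cubGroup.1 hg v,
      mem_cubGroup.1 hg w] at e1
    linear_combination e1
  have a1 := key 1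
  have a2 := key t
  have hne : t * (t - 1) ≠ 0 := mul_ne_zero h0 (sub_ne_zero.2 h1)
  refine mul_left_cancel₀ hne ?_
  linear_combination t ^ 2 * a1 - a2

lemma pC_act {g : GL (Fin 27) K} (hg : g ∈ cubGroup K) (u v w : Fin 27 → K) :
    pC (act g u) (act g v) (act g w) = pC u v w := by
  have h := pB_act hK hg (u + v) w
  rw [act_add, pB_add, pB_add, pB_act hK hg, pB_act hK hg] at h
  linear_combination h

lemma singular_act {g : GL (Fin 27) K} (hg : g ∈ cubGroup K) (a : Fin 27) (w : Fin 27 → K) :
    pB (act g (e a)) w = 0 := by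
  rw [← act_act_inv g w, pB_act hK hg, singular_e]

end CfsgLib.CubicE6
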