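import Cfsg.Agent.Lib.Chev.CubicE6.Transfer
import Cfsg.Agent.Lib.Chev.All
import Cfsg.Agent.Lib.Chev.SimpleData
import Cfsg.Agent.Lib.Chev.StPresent
import Cfsg.Agent.S1050

/-!
The group preserving the cubic form modulo its centre is the Chevalley group of type E6.
-/

set_option autoImplicit false
set_option maxRecDepth 100000

namespace CfsgLib.CubicE6

open Cfsg.Lie CfsgLib.Chev

/-- A group covered by a perfect central extension of a simple group is, modulo its centre,
that simple group. -/
theorem quot_center_equiv {E P M : Type*} [Group E] [Group P] [Group M] (θ : E →* P)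
    (ρ : E →* M) (hθ : Function.Surjective θ) (hker : θ.ker = Subgroup.center E)
    (hperf : commutator E = ⊤) (hP : IsSimpleGroup P) (hnc : ¬ IsMulCommutative P)
    (hρ : ρ.range ≠ ⊥) : Nonempty (↥ρ.range ⧸ Subgroup.center ↥ρ.range ≃* P) := by
  have hcP : Subgroup.center P = ⊥ := by
    rcases hP.eq_bot_or_eq_top_of_normal (Subgroup.center P) inferInstance with h | h
    · exact h
    · exact absurd ⟨⟨fun a b => (Subgroup.mem_center_iff.1
        (h ▸ Subgroup.mem_top a : a ∈ Subgroup.center P) b).symm⟩⟩ hnc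
  have hle : ρ.ker ≤ θ.ker := by
    have hn : (ρ.ker.map θ).Normal := Subgroup.Normal.map inferInstance θ hθ
    rcases hP.eq_bot_or_eq_top_of_normal _ hn with h | h
    · intro x hx
      have : θ x ∈ ρ.ker.map θ := ⟨x, hx, rfl⟩
      rwa [h, Subgroup.mem_bot] at this
    · exfalso
      apply hρ
      have hcomm : commutator E ≤ ρ.ker := by
        rw [commutator_def, Subgroup.commutator_le]
        intro a _ b _
        obtain ⟨k, hk, hka⟩ := (h ▸ Subgroup.mem_top (θ a) : θ a ∈ ρ.ker.map θ)
        have hz : k⁻¹ * a ∈ Subgroup.center E := by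
          rw [← hker, MonoidHom.mem_ker, map_mul, map_inv, hka, inv_mul_cancel]
        have hc := congrArg ρ (Subgroup.mem_center_iff.1 hz b)
        simp only [map_mul, map_inv, MonoidHom.mem_ker.1 hk, inv_one, one_mul] at hc
        rw [MonoidHom.mem_ker, map_commutatorElement, commutatorElement_eq_one_iff_mul_comm]
        exact hc.symm
      rw [hperf, top_le_iff] at hcomm
      rw [MonoidHom.range_eq_bot_iff]
      exact MonoidHom.ker_eq_top_iff.1 hcomm
  set ψ : ↥ρ.range →* P := ρ.rangeRestrict.liftOfSurjective ρ.rangeRestrict_surjective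
    ⟨θ, by rwa [MonoidHom.ker_rangeRestrict]⟩ with hψdef
  have hψ : ∀ x, ψ (ρ.rangeRestrict x) = θ x := fun x =>
    MonoidHom.liftOfRightInverse_comp_apply _ _ _ _ _
  have hsurj : Function.Surjective ψ := fun p => by
    obtain ⟨x, rfl⟩ := hθ p; exact ⟨_, hψ x⟩
  have hkψ : ψ.ker = Subgroup.center ↥ρ.range := by
    ext y
    obtain ⟨x, rfl⟩ := ρ.rangeRestrict_surjective y
    rw [MonoidHom.mem_ker, hψ]
    constructor
    · intro h
      have hx : x ∈ Subgroup.center E := by rw [← hker]; exact h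
      refine Subgroup.mem_center_iff.2 fun y => ?_
      obtain ⟨z, rfl⟩ := ρ.rangeRestrict_surjective y
      rw [← map_mul, ← map_mul, Subgroup.mem_center_iff.1 hx z]
    · intro h
      have : θ x ∈ Subgroup.center P := by
        refine Subgroup.mem_center_iff.2 fun p => ?_
        obtain ⟨z, rfl⟩ := hθ p
        rw [← hψ, ← hψ, ← map_mul ψ, ← map_mul ψ, Subgroup.mem_center_iff.1 h]
      rwa [hcP, Subgroup.mem_bot] at this
  exact ⟨(QuotientGroup.quotientMulEquivOfEq hkψ.symm).trans
    (QuotientGroup.quotientKerEquivOfSurjective ψ hsurj)⟩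

/-- The centres correspond. -/
theorem quot_center_congr {A B : Type*} [Group A] [Group B] (f : A ≃* B) :
    Nonempty (A ⧸ Subgroup.center A ≃* B ⧸ Subgroup.center B) := by
  refine ⟨QuotientGroup.congr _ _ f ?_⟩
  ext y
  show y ∈ (Subgroup.center A).map f.toMonoidHom ↔ _
  rw [Subgroup.mem_map_equiv, Subgroup.mem_center_iff, Subgroup.mem_center_iff]
  exact ⟨fun h b => by simpa using congrArg f (h (f.symm b)),
    fun h a => f.injective (by simpa using h (f a))⟩

theorem exists_equiv (F : Type*) [Field F] [Fintype F] (hF : 3 ≤ Fintype.card F) :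
    Nonempty (Cfsg.Lie.E6 F ≃* ↥(chevE6.group F)) := by
  classical
  have hK : ∃ t : F, t ≠ 0 ∧ t ≠ 1 := by
    obtain ⟨x, -, hx⟩ := Finset.exists_mem_notMem_of_card_lt_card
      (s := ({0, 1} : Finset F)) (t := Finset.univ)
      (by rw [Finset.card_univ]; exact lt_of_le_of_lt Finset.card_le_two (by omega))
    simp only [Finset.mem_insert, Finset.mem_singleton, not_or] at hx
    exact ⟨x, hx⟩
  have hnb : Rel.Nbr tabE6 := by unfold Rel.Nbr; decide +kernel
  obtain ⟨ρ, hρ⟩ : ∃ ρ : chevE6.SteinbergCover F →* GL (Fin 27) F, ∀ r, r < tabE6.n → ∀ t : F,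
      ρ ((certE6.relOf (R := chevE6.steinbergRelsAB F) le_rfl
        (steinbergRelsAB_subset chevE6 F)).x r t) = xE r t :=
    minE6.exists_rep (K := F) minE6_sq certE6 minE6_n minE6_move minE6_base
  have hn : tabE6.n = 72 := by decide +kernel
  have hrange : (ρ.range : Subgroup (GL (Fin 27) F)) = rootGroup F := by
    rw [MonoidHom.range_eq_map, ← (certE6.relOf (R := chevE6.steinbergRelsAB F) le_rfl
      (steinbergRelsAB_subset chevE6 F)).generate, MonoidHom.map_closure]
    refine congrArg Subgroup.closure (Set.ext fun g => ⟨?_, ?_⟩)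
    · rintro ⟨_, ⟨r, hr, t, rfl⟩, rfl⟩
      exact ⟨r, hn ▸ hr, t, hρ r hr t⟩
    · rintro ⟨r, hr, t, rfl⟩
      exact ⟨_, ⟨r, hn.symm ▸ hr, t, rfl⟩, hρ r (hn.symm ▸ hr) t⟩
  obtain ⟨hS, hnc⟩ := certE6.simple_group (F := F) connectedE6 perfectE6
    (Cfsg.Agent.S1050.result _ (by simp))
  have hne : ρ.range ≠ ⊥ := by
    intro h
    have h1 : xE 0 (1 : F) ∈ ρ.range := hrange.ge (xE_mem_rootGroup (by omega) 1)
    rw [h, Subgroup.mem_bot] at h1
    have h2 : act (xE 0 (1 : F)) (e 0) (20 : Fin 27) = act 1 (e 0) (20 : Fin 27) := by rw [h1]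
    rw [act_xE, act_one, Pi.add_apply, Pi.smul_apply, nil6, toM_mulVec,
      show (A 0).filter (fun x => decide (x.1 = (20 : Fin 27))) = [(20, 0, 1)] from by
        decide +kernel] at h2
    simp [e_self] at h2
  obtain ⟨f⟩ := quot_center_equiv
    (certE6.stTheta (R := chevE6.steinbergRelsAB F) le_rfl (steinbergRelsAB_subset chevE6 F)) ρ
    (certE6.stTheta_surjective le_rfl (steinbergRelsAB_subset chevE6 F))
    (by rw [certE6.ker_stTheta, Rel.ker_eq_center _ certE6 hnb])
    (perfect_cover (by simp) fun h => absurd (congrArg ChevalleyDatum.nroots h) (by decide +kernel))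
    hS hnc hne
  have e1 : ↥(E6univ F) ≃* ↥(ρ.range) :=
    ((MulEquiv.subgroupCongr map_cubGroup.symm).trans
      ((glE F).subgroupMap (cubGroup F)).symm).trans
      (MulEquiv.subgroupCongr ((cubGroup_eq hK).trans hrange.symm))
  obtain ⟨g⟩ := quot_center_congr e1
  exact ⟨g.trans f⟩

end CfsgLib.CubicE6
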