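import Cfsg.Agent.Lib.Chev.CubicE6.Clear

/-!
The group of the root elements is the whole group preserving the cubic form.
-/

set_option autoImplicit false
set_option maxRecDepth 100000

namespace CfsgLib.CubicE6

open Cfsg.Lie CfsgLib.Chev
open CfsgLib.ChevOrth (SM toM)

/-- The check of one step. -/
def chkStep (S : List (Fin 27)) : Step → Bool
  | (m, kind, s, s', ps, U) =>
    !S.contains (cd m) && ps.all (fun p => pathOK S (cd m) (cd p.1) p.2) &&
    unipOK S (cd m) (U.map fun u => (u.1, cd u.2.1, u.2.2)) &&
    match kind with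
    | 0 => (List.finRange 27).all fun x =>
        S.contains x || !alive S (cd m) x || (ps.map fun p => cd p.1).contains x
    | 1 => S.contains (cd s) && !(link (cd s) (cd m)).isEmpty &&
        (List.finRange 27).all fun x =>
          (link (cd s) x).isEmpty || !alive S (cd m) x || (ps.map fun p => cd p.1).contains x
    | _ => S.contains (cd s) && S.contains (cd s') &&
        decide ((link (cd s) (cd s')).map Prod.fst = [cd m])

/-- The checks of all steps. -/
def chkSteps : List (Fin 27) → List Step → Bool
  | S, [] => (List.finRange 27).all fun a => S.contains a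
  | S, st :: L => chkStep S st && chkSteps (cd st.1 :: S) L

lemma steps_ok : chkSteps [] stepData = true := by decide +kernel

/-- The torus element of a simple root. -/
noncomputable def hChk (k : ℕ) (a : Fin 27) : Bool :=
  let P := A (tabE6.simple k)
  let N := A (tabE6.neg (tabE6.simple k))
  match P.filter (fun x => decide (x.2.1 = a)), N.filter (fun x => decide (x.2.1 = a)) with
  | [], [] => true
  | [(i, _, c)], [] =>
    match P.filter (fun x => decide (x.2.1 = i)), N.filter (fun x => decide (x.2.1 = i)) with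
    | [], [(j, _, d)] => decide (j = a ∧ c * d = 1)
    | _, _ => false
  | [], [(i, _, d)] =>
    match P.filter (fun x => decide (x.2.1 = i)), N.filter (fun x => decide (x.2.1 = i)) with
    | [(j, _, c)], [] => decide (j = a ∧ c * d = 1)
    | _, _ => false
  | _, _ => false

/-- The weight of a coordinate at a simple root. -/
noncomputable def wt (k : ℕ) (a : Fin 27) : ℤ :=
  (((A (tabE6.neg (tabE6.simple k))).filter fun x => decide (x.2.1 = a)).length : ℤ) -
    ((A (tabE6.simple k)).filter fun x => decide (x.2.1 = a)).length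

/-- The indicator of a monomial. -/
def triVec (i : ℕ) (y : Fin 27) : ℤ :=
  match tri[i]? with
  | some (a, b, c, _) => (if y = a then 1 else 0) + (if y = b then 1 else 0) + if y = c then 1 else 0
  | none => 0

/-- The exponents of a parameter. -/
def expVec (k : ℕ) (y : Fin 27) : ℤ := (expData.getD k []).getD y.val 0

/-- The check of the torus. -/
noncomputable def chkTorus : Bool :=
  (List.range 6).all (fun k => decide (tabE6.simple k < 72 ∧ tabE6.neg (tabE6.simple k) < 72) &&
    (List.finRange 27).all fun a => hChk k a) &&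
  (List.finRange 27).all fun a => (List.finRange 27).all fun y =>
    decide ((if y = a then 1 else 0 : ℤ) =
      ((List.range 6).map fun k => wt k a * expVec k y).sum +
      ((certData.getD a.val []).map fun p => p.2 * triVec p.1 y).sum)

lemma torus_ok : chkTorus = true := by decide +kernel

lemma tri_link : (tri.all fun t => decide ((link t.1 t.2.1) = [(t.2.2.1, t.2.2.2)]) &&
    decide (t.2.2.2 = 1 ∨ t.2.2.2 = -1)) = true := by decide +kernel

variable {K : Type*} [Field K] (hK : ∃ t : K, t ≠ 0 ∧ t ≠ 1)
include hK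

lemma step_spec {S : List (Fin 27)} {st : Step} (hst : chkStep S st = true)
    {g : GL (Fin 27) K} (hg : g ∈ cubGroup K) (hf : Fix S g) :
    ∃ h ∈ rootGroup K, Fix (cd st.1 :: S) (h * g) := by
  obtain ⟨m, kind, s, s', ps, U₀⟩ := st
  set μ := cd m
  set U := U₀.map fun u => (u.1, cd u.2.1, u.2.2)
  simp only [chkStep, Bool.and_eq_true, List.all_eq_true, Bool.not_eq_true',
    List.contains_eq_mem, decide_eq_false_iff_not] at hst
  obtain ⟨⟨⟨hμ, hps⟩, hU⟩, hkind⟩ := hst
  have hstart : (∃ x, x ∈ ps.map (fun p => cd p.1) ∧ act g (e μ) x ≠ 0) ∨ act g (e μ) μ ≠ 0 := by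
    have halive : ∀ x, act g (e μ) x ≠ 0 → alive S μ x = true := fun x hx => by
      by_contra hh
      exact hx (killed_zero hK hg hf (Bool.eq_false_iff.2 hh))
    match kind, hkind with
    | 0, hkind =>
      obtain ⟨x, hxS, hx⟩ := nonzero_out hf hμ
      simp only [List.all_eq_true, List.mem_finRange, forall_const, Bool.or_eq_true,
        List.contains_eq_mem, decide_eq_true_eq, Bool.not_eq_true'] at hkind
      rcases hkind x with (h | h) | h
      · exact absurd h hxS
      · exact absurd (halive x hx) (by rw [h]; simp)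
      · exact Or.inl ⟨x, h, hx⟩
    | 1, hkind =>
      simp only [List.all_eq_true, List.mem_finRange, forall_const, Bool.and_eq_true,
        Bool.or_eq_true, List.contains_eq_mem, decide_eq_true_eq, Bool.not_eq_true',
        List.isEmpty_iff, List.isEmpty_eq_false_iff] at hkind
      obtain ⟨⟨hs, hl⟩, hall⟩ := hkind
      obtain ⟨c, -, hc⟩ := hf _ hs
      obtain ⟨x, hxs, hx⟩ := nonzero_adj hK hg hc hl
      rcases hall x with (h | h) | h
      · exact absurd h hxs
      · exact absurd (halive x hx) (by rw [h]; simp)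
      · exact Or.inl ⟨x, h, hx⟩
    | _ + 2, hkind =>
      simp only [Bool.and_eq_true, List.contains_eq_mem, decide_eq_true_eq] at hkind
      exact Or.inr (nonzero_pair hK hg hf hkind.1.1 hkind.1.2 hkind.2)
  obtain ⟨h₁, hm₁, hf₁, hn₁⟩ : ∃ h ∈ rootGroup K, (∀ s ∈ S, act h (e s : Fin 27 → K) = e s) ∧
      act h (act g (e μ)) μ ≠ 0 := by
    rcases hstart with ⟨x, hx, hne⟩ | hne
    · obtain ⟨p, hp, rfl⟩ := List.mem_map.1 hx
      exact path_spec p.2 _ _ (hps p hp) hne
    · exact ⟨1, one_mem _, fun s _ => act_one _, by rwa [act_one]⟩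
  set g₁ := h₁ * g
  have hg₁ : g₁ ∈ cubGroup K := mul_mem (rootGroup_le hm₁) hg
  have hF₁ : Fix S g₁ := hf.mul hf₁
  set w := act g₁ (e μ)
  have hw : w μ ≠ 0 := by simpa [w, g₁, act_mul] using hn₁
  simp only [unipOK, Bool.and_eq_true, List.all_eq_true, decide_eq_true_eq,
    Bool.or_eq_true, Bool.not_eq_true', List.isEmpty_iff, List.isEmpty_eq_false_iff,
    List.mem_finRange, forall_const, List.contains_eq_mem] at hU
  obtain ⟨⟨hnd, hUall⟩, hcov⟩ := hU
  obtain ⟨hum, huf, huv⟩ := uProd_spec (S := S) w U hnd fun u hu =>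
    ⟨(hUall u hu).1.1.1.1.1, (hUall u hu).1.1.1.1.2, (hUall u hu).1.1.1.2, (hUall u hu).1.1.2,
      (hUall u hu).1.2, fun a ha => (hUall u hu).2 a ha⟩
  set u := uProd w μ U
  have hwu : w = w μ • act u (e μ) := by
    refine singular_ext (fun z => singular_act hK hg₁ μ z)
      (fun z => by rw [pB_smul, singular_act hK (rootGroup_le hum), mul_zero]) hw fun x hx => ?_
    rw [Pi.smul_apply, huv x hx, smul_eq_mul]
    by_cases hxμ : x = μ
    · rw [if_pos hxμ, mul_one, hxμ]
    rw [if_neg hxμ]
    split_ifs with hin
    · exact (mul_div_cancel₀ (w x) hw).symm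
    · rw [mul_zero]
      rcases hcov x with ((h | h) | h) | h
      · exact absurd h hxμ
      · exact absurd hx h
      · exact killed_zero hK hg₁ hF₁ h
      · exact absurd h hin
  refine ⟨u⁻¹ * h₁, mul_mem (inv_mem hum) hm₁, ?_⟩
  rw [mul_assoc]
  intro x hx
  rcases List.mem_cons.1 hx with rfl | hxS
  · exact ⟨w μ, hw, by rw [act_mul]; show act u⁻¹ w = _; rw [hwu, act_smul, act_inv_act, ← hwu]⟩
  · refine Fix.mul hF₁ (fun s hs => ?_) x hxS
    conv_lhs => rw [← huf s hs]
    exact act_inv_act u _

lemma steps_spec (L : List Step) : ∀ (S : List (Fin 27)) (g : GL (Fin 27) K),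
    chkSteps S L = true → g ∈ cubGroup K → Fix S g →
    ∃ h ∈ rootGroup K, ∃ c : Fin 27 → Kˣ, ∀ a, act (h * g) (e a) = (c a : K) • e a := by
  induction L with
  | nil =>
    intro S g h hg hf
    simp only [chkSteps, List.all_eq_true, List.contains_eq_mem, decide_eq_true_eq] at h
    choose c hc0 hc using fun a => hf a (h a (List.mem_finRange a))
    exact ⟨1, one_mem _, fun a => Units.mk0 (c a) (hc0 a), fun a => by rw [one_mul]; exact hc a⟩
  | cons st L ih =>
    intro S g h hg hf
    rw [chkSteps, Bool.and_eq_true] at h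
    obtain ⟨h₁, hm₁, hf₁⟩ := step_spec hK h.1 hg hf
    obtain ⟨h₂, hm₂, c, hc⟩ := ih _ _ h.2 (mul_mem (rootGroup_le hm₁) hg) hf₁
    exact ⟨h₂ * h₁, mul_mem hm₂ hm₁, c, fun a => by rw [mul_assoc]; exact hc a⟩

omit hK

/-- The `n`-element of a simple root. -/
noncomputable def nE (k : ℕ) (t : K) : GL (Fin 27) K :=
  xE (tabE6.simple k) t * xE (tabE6.neg (tabE6.simple k)) (-t⁻¹) * xE (tabE6.simple k) t

/-- The torus element of a simple root. -/
noncomputable def hE (k : ℕ) (t : K) : GL (Fin 27) K := nE k t * nE k (-1)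

lemma nil6_e (r : ℕ) (a : Fin 27) :
    nil6 r (e a : Fin 27 → K) =
      (((A r).filter fun x => decide (x.2.1 = a)).map fun x => (x.2.2 : K) • e x.1).sum := by
  unfold nil6
  induction A r with
  | nil => simp
  | cons x L ih =>
    rw [ChevOrth.toM_cons, Matrix.add_mulVec, ih, Matrix.single_mulVec]
    by_cases h : x.2.1 = a
    · rw [List.filter_cons_of_pos (by simp [h]), List.map_cons, List.sum_cons, h, e_self, mul_one]
      congr 1
      funext i
      by_cases hi : i = x.1
      · subst hi; simp [e_self]
      · simp [e_ne hi, Function.update_of_ne hi]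
    · rw [List.filter_cons_of_neg (by simp [h]), e_ne h, mul_zero]
      simp

lemma nil6_add (r : ℕ) (v w : Fin 27 → K) : nil6 r (v + w) = nil6 r v + nil6 r w :=
  Matrix.mulVec_add _ _ _

lemma nil6_smul (r : ℕ) (a : K) (v : Fin 27 → K) : nil6 r (a • v) = a • nil6 r v :=
  Matrix.mulVec_smul _ _ _

lemma hE_pair {k : ℕ} {a i : Fin 27} {c d : K} (hcd : c * d = 1)
    (h1 : nil6 (tabE6.simple k) (e a : Fin 27 → K) = c • e i) (h2 : nil6 (tabE6.simple k) (e i : Fin 27 → K) = 0)
    (h3 : nil6 (tabE6.neg (tabE6.simple k)) (e i : Fin 27 → K) = d • e a)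
    (h4 : nil6 (tabE6.neg (tabE6.simple k)) (e a : Fin 27 → K) = 0) {t : K} (ht : t ≠ 0) :
    act (hE k t) (e a) = t⁻¹ • e a ∧ act (hE k t) (e i) = t • e i := by
  have ha : ∀ s : K, s ≠ 0 → act (nE k s) (e a) = (s * c) • e i := by
    intro s hs
    simp only [nE, act_mul, act_xE, nil6_add, nil6_smul, h1, h2, h3, h4, smul_smul, smul_zero,
      add_zero, smul_add, zero_add]
    match_scalars
    · field_simp; linear_combination -hcd
    · field_simp; linear_combination -c * hcd
  have hi : ∀ s : K, s ≠ 0 → act (nE k s) (e i) = (-(s⁻¹ * d)) • e a := by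
    intro s hs
    simp only [nE, act_mul, act_xE, nil6_add, nil6_smul, h1, h2, h3, h4, smul_smul, smul_zero,
      add_zero, smul_add, zero_add]
    match_scalars
    · field_simp; linear_combination -hcd
    · field_simp
  have hn : (-1 : K) ≠ 0 := neg_ne_zero.2 one_ne_zero
  refine ⟨?_, ?_⟩
  · rw [hE, act_mul, ha _ hn, act_smul, hi _ ht, smul_smul]
    congr 1
    field_simp
    linear_combination hcd
  · rw [hE, act_mul, hi _ hn, act_smul, ha _ ht, smul_smul, inv_neg, inv_one]
    congr 1
    linear_combination t * hcd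

lemma hE_e {k : ℕ} (a : Fin 27) (h : hChk k a = true) (t : Kˣ) :
    act (hE k (t : K)) (e a) = ((t ^ wt k a : Kˣ) : K) • e a := by
  unfold hChk at h
  unfold wt
  dsimp only at h
  have hcast : ∀ {c d : ℤ}, c * d = 1 → (c : K) * (d : K) = 1 := fun h => by
    rw [← Int.cast_mul, h, Int.cast_one]
  split at h
  next hP hN =>
    rw [hP, hN]
    simp [hE, nE, act_mul, act_xE, nil6_e, hP, hN]
  next i _ c hP hN =>
    split at h
    next j _ d hP' hN' =>
      obtain ⟨rfl, hcd⟩ := of_decide_eq_true h
      rw [hP, hN]
      have := (hE_pair (k := k) (a := j) (i := i) (hcast hcd) (by simp [nil6_e, hP])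
        (by simp [nil6_e, hP']) (by simp [nil6_e, hN']) (by simp [nil6_e, hN]) t.ne_zero).1
      simpa using this
    next => exact absurd h Bool.false_ne_true
  next i _ d hP hN =>
    split at h
    next j _ c hP' hN' =>
      obtain ⟨rfl, hcd⟩ := of_decide_eq_true h
      rw [hP, hN]
      have := (hE_pair (k := k) (a := i) (i := j) (hcast hcd) (by simp [nil6_e, hP'])
        (by simp [nil6_e, hP]) (by simp [nil6_e, hN]) (by simp [nil6_e, hN']) t.ne_zero).2
      simpa using this
    next => exact absurd h Bool.false_ne_true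
  next => exact absurd h Bool.false_ne_true

lemma act_prod_e (a : Fin 27) (L : List ℕ) (G : ℕ → GL (Fin 27) K) (f : ℕ → Kˣ)
    (hG : ∀ k ∈ L, act (G k) (e a) = (f k : K) • e a) :
    act (L.map G).prod (e a) = (((L.map f).prod : Kˣ) : K) • e a := by
  induction L with
  | nil => simp [act_one]
  | cons k L ih =>
    rw [List.map_cons, List.map_cons, List.prod_cons, List.prod_cons, act_mul,
      ih fun x hx => hG x (List.mem_cons_of_mem _ hx), act_smul, hG k (List.mem_cons_self ..),
      smul_smul, Units.val_mul, mul_comm]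

include hK

/-- A diagonal element preserving the cubic form lies in the group of the root elements. -/
lemma diag_mem {g : GL (Fin 27) K} (hg : g ∈ cubGroup K) (c : Fin 27 → Kˣ)
    (hc : ∀ a, act g (e a) = (c a : K) • e a) : g ∈ rootGroup K := by
  let φ : (Fin 27 → ℤ) →+ Additive Kˣ :=
    { toFun := fun f => ∑ y, f y • Additive.ofMul (c y)
      map_zero' := by simp
      map_add' := fun f f' => by simp [add_zsmul, Finset.sum_add_distrib] }
  have hφ : ∀ f, φ f = ∑ y, f y • Additive.ofMul (c y) := fun f => rfl
  have hdelta : ∀ a : Fin 27, φ (fun y => if y = a then 1 else 0) = Additive.ofMul (c a) := by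
    intro a
    rw [hφ, Finset.sum_eq_single a (fun y _ hy => by rw [if_neg hy, zero_zsmul]) (by simp),
      if_pos rfl, one_zsmul]
  have htri : ∀ i, φ (triVec i) = 0 := by
    intro i
    unfold triVec
    cases ht : tri[i]? with
    | none => exact map_zero φ
    | some t =>
      obtain ⟨a, b, d, s⟩ := t
      have hm := List.all_eq_true.1 tri_link _ (List.mem_of_getElem? ht)
      simp only [Bool.and_eq_true, decide_eq_true_eq] at hm
      have h1 := pC_act hK hg (e a) (e b) (e d)
      rw [hc, hc, hc, pC, ev_smul₁, ev_smul₂, ev_smul₃, ← pC, pC_e_e, hm.1] at h1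
      simp [e_self] at h1
      have hne := cast_sign_ne_zero (K := K) hm.2
      have h2 : c a * c b * c d = 1 := Units.ext (by
        rw [Units.val_mul, Units.val_mul, Units.val_one]
        refine mul_right_cancel₀ hne ?_
        linear_combination h1)
      show φ ((fun y => if y = a then 1 else 0) + (fun y => if y = b then 1 else 0) +
        fun y => if y = d then 1 else 0) = 0
      rw [map_add, map_add, hdelta, hdelta, hdelta, ← ofMul_mul, ← ofMul_mul, h2, ofMul_one]
  let T : ℕ → Kˣ := fun k => Additive.toMul (φ (expVec k))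
  let h : GL (Fin 27) K := ((List.range 6).map fun k => hE k ((T k : Kˣ) : K)).prod
  have hok := torus_ok
  simp only [chkTorus, Bool.and_eq_true, List.all_eq_true, decide_eq_true_eq, List.mem_range,
    List.mem_finRange, forall_const] at hok
  obtain ⟨hk, hid⟩ := hok
  have hh : h ∈ rootGroup K := by
    refine list_prod_mem fun x hx => ?_
    obtain ⟨k, hk', rfl⟩ := List.mem_map.1 hx
    obtain ⟨h1, h2⟩ := (hk k (List.mem_range.1 hk')).1
    exact mul_mem
      (mul_mem (mul_mem (xE_mem_rootGroup h1 _) (xE_mem_rootGroup h2 _)) (xE_mem_rootGroup h1 _))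
      (mul_mem (mul_mem (xE_mem_rootGroup h1 _) (xE_mem_rootGroup h2 _)) (xE_mem_rootGroup h1 _))
  have he : ∀ a, act h (e a) = (c a : K) • e a := by
    intro a
    rw [act_prod_e a (List.range 6) _ (fun k => T k ^ wt k a)
      fun k hk' => hE_e a ((hk k (List.mem_range.1 hk')).2 a) (T k)]
    congr 2
    apply Additive.ofMul.injective
    rw [ofMul_list_prod, ← hdelta a,
      show (fun y => if y = a then (1 : ℤ) else 0) =
        ((List.range 6).map fun k => wt k a • expVec k).sum +
        ((certData.getD a.val []).map fun p => p.2 • triVec p.1).sum from funext fun y => by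
          rw [hid a y, Pi.add_apply, Pi.list_sum_apply, Pi.list_sum_apply, List.map_map,
            List.map_map]
          rfl,
      map_add, map_list_sum, map_list_sum, List.map_map, List.map_map, List.map_map]
    have h0 : ((certData.getD a.val []).map (φ ∘ fun p => p.2 • triVec p.1)).sum = 0 :=
      List.sum_eq_zero fun z hz => by
        obtain ⟨p, -, rfl⟩ := List.mem_map.1 hz
        rw [Function.comp_apply, map_zsmul, htri, zsmul_zero]
    rw [h0, add_zero]
    refine congrArg List.sum (List.map_congr_left fun k _ => ?_)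
    simp only [Function.comp_apply, map_zsmul, ofMul_zpow]
    rfl
  have : g = h := by
    refine Units.ext (Matrix.ext_of_mulVec_single fun a => ?_)
    exact (hc a).trans (he a).symm
  rw [this]; exact hh

/-- The root elements generate the group preserving the cubic form. -/
theorem cubGroup_eq : cubGroup K = rootGroup K := by
  refine le_antisymm (fun g hg => ?_) rootGroup_le
  obtain ⟨h, hm, c, hc⟩ := steps_spec hK stepData [] g steps_ok hg (fun s hs => absurd hs (by simp))
  have := diag_mem hK (mul_mem (rootGroup_le hm) hg) c hc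
  simpa using mul_mem (inv_mem hm) this

end CfsgLib.CubicE6
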