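import Cfsg.Agent.Lib.Chev.CubicE6.Form

/-!
The root elements of the minimal representation preserve the cubic form.
-/

set_option autoImplicit false
set_option maxRecDepth 100000

namespace CfsgLib.CubicE6

open Cfsg.Lie CfsgLib.Chev
open CfsgLib.ChevOrth (SM toM)

/-- The entries of a root matrix. -/
def A (r : ℕ) : SM (Fin 27) := minE6.mat r

/-- Three coordinates in order. -/
def key (a b c : Fin 27) : Fin 27 × Fin 27 × Fin 27 :=
  if a ≤ b then if b ≤ c then (a, b, c) else if a ≤ c then (a, c, b) else (c, a, b)
  else if a ≤ c then (b, a, c) else if b ≤ c then (b, c, a) else (c, b, a)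

/-- The first order change of the cubic form. -/
def deriv (L : SM (Fin 27)) : List ((Fin 27 × Fin 27 × Fin 27) × ℤ) :=
  bT.flatMap fun t => (L.filter fun x => decide (x.1 = t.2.2.1)).map fun x =>
    (key t.1 t.2.1 x.2.1, t.2.2.2 * x.2.2)

/-- The monomials changed cancel. -/
def chkRoot (r : ℕ) : Bool :=
  bT.all (fun t => !((A r).any (fun x => decide (x.1 = t.1)) &&
    (A r).any (fun x => decide (x.1 = t.2.1)))) &&
  tri.all (fun t => !((A r).any (fun x => decide (x.1 = t.1)) &&
    (A r).any (fun x => decide (x.1 = t.2.1)))) &&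
  (deriv (A r)).all (fun m => decide (m.2 = 1 ∨ m.2 = -1)) &&
  (((deriv (A r)).filter fun m => decide (m.2 = 1)).map Prod.fst).isPerm
    (((deriv (A r)).filter fun m => !decide (m.2 = 1)).map Prod.fst)

lemma chkRoot_all : ((List.range 72).all chkRoot) = true := by decide +kernel

variable {K : Type*} [Field K]

/-- The monomial of three coordinates. -/
def mon (v : Fin 27 → K) (k : Fin 27 × Fin 27 × Fin 27) : K := v k.1 * v k.2.1 * v k.2.2

lemma mon_key (v : Fin 27 → K) (a b c : Fin 27) : mon v (key a b c) = v a * v b * v c := by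
  unfold key mon
  split_ifs <;> ring

/-- A root element. -/
noncomputable def xE (r : ℕ) (t : K) : GL (Fin 27) K := minE6.xR minE6_sq r t

/-- The image of a vector under a root matrix. -/
noncomputable def nil6 (r : ℕ) (v : Fin 27 → K) : Fin 27 → K := (toM K (A r)).mulVec v

lemma act_xE (r : ℕ) (t : K) (v : Fin 27 → K) : act (xE r t) v = v + t • nil6 r v := by
  unfold act
  rw [show (xE r t : GL (Fin 27) K).val = 1 + t • toM K (A r) from rfl, Matrix.add_mulVec,
    Matrix.one_mulVec, Matrix.smul_mulVec]
  rfl

lemma toM_mulVec (L : SM (Fin 27)) (v : Fin 27 → K) (i : Fin 27) :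
    (toM K L).mulVec v i =
      ((L.filter fun x => decide (x.1 = i)).map fun x => (x.2.2 : K) * v x.2.1).sum := by
  induction L with
  | nil => simp
  | cons x L ih =>
    rw [ChevOrth.toM_cons, Matrix.add_mulVec, Pi.add_apply, ih, Matrix.single_mulVec]
    by_cases h : x.1 = i
    · subst h
      rw [List.filter_cons_of_pos (by simp), List.map_cons, List.sum_cons,
        Function.update_self]
    · rw [List.filter_cons_of_neg (by simp [h]), Function.update_of_ne (Ne.symm h), Pi.zero_apply, zero_add]

lemma nil6_zero {r : ℕ} {i : Fin 27} (h : (A r).any (fun x => decide (x.1 = i)) = false)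
    (v : Fin 27 → K) : nil6 r v i = 0 := by
  rw [nil6, toM_mulVec, List.filter_eq_nil_iff.2, List.map_nil, List.sum_nil]
  intro x hx hd
  have := List.any_eq_false.1 h x hx
  exact this hd

lemma ev_nil6 (r : ℕ) (v : Fin 27 → K) :
    pB v (nil6 r v) = ((deriv (A r)).map fun m => (m.2 : K) * mon v m.1).sum := by
  unfold pB deriv
  induction bT with
  | nil => simp [ev]
  | cons t L ih =>
    rw [ev_cons, ih, List.flatMap_cons, List.map_append, List.sum_append, List.map_map]
    congr 1
    rw [nil6, toM_mulVec]
    induction (A r).filter fun x => decide (x.1 = t.2.2.1) with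
    | nil => simp
    | cons x M ih2 =>
      simp only [List.map_cons, List.sum_cons, mul_add, ih2, Function.comp_apply, mon_key,
        Int.cast_mul]
      ring

lemma sum_signs (f : Fin 27 × Fin 27 × Fin 27 → K) (L : List ((Fin 27 × Fin 27 × Fin 27) × ℤ))
    (hL : L.all (fun m => decide (m.2 = 1 ∨ m.2 = -1)) = true) :
    (L.map fun m => (m.2 : K) * f m.1).sum =
      (((L.filter fun m => decide (m.2 = 1)).map Prod.fst).map f).sum -
        (((L.filter fun m => !decide (m.2 = 1)).map Prod.fst).map f).sum := by
  induction L with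
  | nil => simp
  | cons m L ih =>
    rw [List.all_cons, Bool.and_eq_true] at hL
    rw [List.map_cons, List.sum_cons, ih hL.2]
    rcases of_decide_eq_true hL.1 with h | h
    · rw [List.filter_cons_of_pos (by simp [h]), List.filter_cons_of_neg (by simp [h])]
      simp only [List.map_cons, List.sum_cons, h, Int.cast_one]
      ring
    · rw [List.filter_cons_of_neg (by simp [h]), List.filter_cons_of_pos (by simp [h])]
      simp only [List.map_cons, List.sum_cons, h, Int.cast_neg, Int.cast_one]
      ring

lemma xE_mem {r : ℕ} (hr : r < 72) (t : K) : xE r t ∈ cubGroup K := by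
  have h := List.all_eq_true.1 chkRoot_all r (List.mem_range.2 hr)
  simp only [chkRoot, Bool.and_eq_true, List.all_eq_true, Bool.not_eq_true',
    Bool.and_eq_false_iff] at h
  obtain ⟨⟨⟨hb, ht⟩, hs⟩, hp⟩ := h
  have hzero : ∀ (L : List Term),
      (∀ x ∈ L, (A r).any (fun e => decide (e.1 = x.1)) = false ∨
        (A r).any (fun e => decide (e.1 = x.2.1)) = false) →
      ∀ (v w : Fin 27 → K), ev L (nil6 r v) (nil6 r v) w = 0 := by
    intro L hL v w
    refine List.sum_eq_zero fun z hz => ?_
    obtain ⟨x, hx, rfl⟩ := List.mem_map.1 hz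
    rcases hL x hx with e | e <;> simp [nil6_zero e]
  refine mem_cubGroup.2 fun v => ?_
  have h1 : pB v (nil6 r v) = 0 := by
    rw [ev_nil6, sum_signs (mon v) _ (List.all_eq_true.2 hs),
      ((List.isPerm_iff.1 hp).map _).sum_eq, sub_self]
  have h2 : pB (nil6 r v) v = 0 := hzero bT hb v v
  have h3 : cub (nil6 r v) = 0 := hzero tri ht v (nil6 r v)
  rw [act_xE, cub_add_smul, h1, h2, h3]
  ring

end CfsgLib.CubicE6
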