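import Cfsg.Agent.Lib.Chev.CubicE6.Root

/-!
An element preserving the cubic form is moved by root elements to a diagonal one: the columns are
fixed one after the other.
-/

set_option autoImplicit false
set_option maxRecDepth 100000

namespace CfsgLib.CubicE6

open Cfsg.Lie CfsgLib.Chev
open CfsgLib.ChevOrth (SM toM)

lemma link_ok : ((List.finRange 27).all fun a => (List.finRange 27).all fun b =>
    decide ((link a b).length ≤ 1) && (link a b).all fun k =>
      decide (k.2 = 1 ∨ k.2 = -1) && decide ((link a k.1).map Prod.fst = [b])) = true := by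
  decide +kernel

lemma link_single {a b : Fin 27} {k : Fin 27 × ℤ} (h : k ∈ link a b) :
    link a b = [k] ∧ (k.2 = 1 ∨ k.2 = -1) ∧ (link a k.1).map Prod.fst = [b] := by
  have h0 := List.all_eq_true.1 (List.all_eq_true.1 link_ok a (List.mem_finRange a)) b
    (List.mem_finRange b)
  simp only [Bool.and_eq_true, decide_eq_true_eq, List.all_eq_true] at h0
  refine ⟨?_, h0.2 k h⟩
  match hl : link a b, h0.1, h with
  | [x], _, h => simpa [eq_comm] using h

lemma link_swap {a b : Fin 27} {k : Fin 27 × ℤ} (h : k ∈ link a b) :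
    ∃ ε : ℤ, (ε = 1 ∨ ε = -1) ∧ link a k.1 = [(b, ε)] := by
  obtain ⟨-, -, h3⟩ := link_single h
  obtain ⟨⟨y, ε⟩, hy, hf⟩ := List.map_eq_singleton_iff.1 h3
  simp only at hf
  subst hf
  exact ⟨ε, (link_single (by rw [hy]; exact List.mem_singleton_self _)).2.1, hy⟩

/-- The coordinate killed by a fixed column not meeting the column. -/
def kill₁ (S : List (Fin 27)) (μ x : Fin 27) : Bool :=
  S.any fun s => (link s μ).isEmpty && !(link s x).isEmpty

/-- The coordinate killed by two fixed columns. -/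
def kill₂ (S : List (Fin 27)) (μ x : Fin 27) : Bool :=
  decide (x ≠ μ) && S.any fun s => (link s x).any fun k => S.contains k.1

/-- A coordinate that may be nonzero. -/
def alive (S : List (Fin 27)) (μ x : Fin 27) : Bool := !(kill₁ S μ x || kill₂ S μ x)

variable {K : Type*} [Field K]

lemma cast_sign_ne_zero {ε : ℤ} (h : ε = 1 ∨ ε = -1) : (ε : K) ≠ 0 := by
  rcases h with rfl | rfl <;> simp

lemma cast_sign_sq {ε : ℤ} (h : ε = 1 ∨ ε = -1) : (ε : K) * (ε : K) = 1 := by
  rcases h with rfl | rfl <;> simp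

/-- The lines of some basis vectors are fixed. -/
def Fix (S : List (Fin 27)) (g : GL (Fin 27) K) : Prop :=
  ∀ s ∈ S, ∃ c : K, c ≠ 0 ∧ act g (e s) = c • e s

/-- The group of the root elements. -/
noncomputable def rootGroup (K : Type*) [Field K] : Subgroup (GL (Fin 27) K) :=
  Subgroup.closure {g | ∃ r, r < 72 ∧ ∃ t : K, g = xE r t}

lemma xE_mem_rootGroup {r : ℕ} (hr : r < 72) (t : K) : xE r t ∈ rootGroup K :=
  Subgroup.subset_closure ⟨r, hr, t, rfl⟩

lemma rootGroup_le : rootGroup K ≤ cubGroup K :=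
  (Subgroup.closure_le _).2 fun g ⟨r, hr, t, e⟩ => by subst e; exact xE_mem hr t

lemma pC_e_zero {s : Fin 27} {w : Fin 27 → K}
    (h : ∀ x, link s x ≠ [] → w x = 0) (z : Fin 27 → K) : pC (e s) w z = 0 := by
  refine List.sum_eq_zero fun y hy => ?_
  obtain ⟨t, ht, rfl⟩ := List.mem_map.1 hy
  by_cases h1 : t.1 = s
  · have hne : link s t.2.1 ≠ [] := by
      rw [link, ne_eq, List.map_eq_nil_iff, List.filter_eq_nil_iff]
      exact fun hh => hh t ht (by simp [h1])
    rw [h _ hne, mul_zero, zero_mul, mul_zero]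
  · rw [e_ne h1, zero_mul, zero_mul, mul_zero]

lemma pC_act_e (hK : ∃ t : K, t ≠ 0 ∧ t ≠ 1) {g : GL (Fin 27) K} (hg : g ∈ cubGroup K)
    {s : Fin 27} {c : K} (hc : act g (e s) = c • e s) (v w : Fin 27 → K) :
    c * pC (e s) (act g v) (act g w) = pC (e s) v w := by
  have h := pC_act hK hg (e s) v w
  rwa [hc, pC, ev_smul₁] at h

variable (hK : ∃ t : K, t ≠ 0 ∧ t ≠ 1) {S : List (Fin 27)} {g : GL (Fin 27) K}
  (hg : g ∈ cubGroup K) (hf : Fix S g)
include hK hg hf

lemma killed_zero {μ x : Fin 27} (h : alive S μ x = false) : act g (e μ) x = 0 := by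
  rw [alive, Bool.not_eq_false', Bool.or_eq_true] at h
  rcases h with h | h
  · obtain ⟨s, hs, h⟩ := List.any_eq_true.1 h
    rw [Bool.and_eq_true, Bool.not_eq_true', List.isEmpty_iff, List.isEmpty_eq_false_iff] at h
    obtain ⟨c, hc0, hc⟩ := hf s hs
    obtain ⟨k, hk⟩ := List.exists_mem_of_ne_nil _ h.2
    obtain ⟨ε, hε, hl⟩ := link_swap hk
    have h1 := pC_act_e hK hg hc (e μ) (act g⁻¹ (e k.1))
    rw [act_act_inv, pC_e_e, h.1, List.map_nil, List.sum_nil, pC_swap, pC_e_e, hl] at h1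
    simpa [hc0, cast_sign_ne_zero hε] using h1
  · rw [kill₂, Bool.and_eq_true, decide_eq_true_eq] at h
    obtain ⟨hne, h⟩ := h
    obtain ⟨s, hs, h⟩ := List.any_eq_true.1 h
    obtain ⟨k, hk, hkS⟩ := List.any_eq_true.1 h
    obtain ⟨c, hc0, hc⟩ := hf s hs
    obtain ⟨d, hd0, hd⟩ := hf k.1 (List.contains_iff_mem.1 hkS)
    obtain ⟨ε, hε, hl⟩ := link_swap hk
    have h1 := pC_act_e hK hg hc (e k.1) (e μ)
    rw [hd, pC, ev_smul₂, ← pC, pC_e_e, pC_e_e, hl] at h1
    simpa [hc0, hd0, e_ne hne, cast_sign_ne_zero hε] using h1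

omit hf in
lemma nonzero_adj {μ s : Fin 27} {c : K} (hc : act g (e s) = c • e s) (h : link s μ ≠ []) :
    ∃ x, link s x ≠ [] ∧ act g (e μ) x ≠ 0 := by
  by_contra hno
  push Not at hno
  obtain ⟨k, hk⟩ := List.exists_mem_of_ne_nil _ h
  obtain ⟨ε, hε, hl⟩ := link_swap hk
  have h1 := pC_act_e hK hg hc (e μ) (e k.1)
  rw [pC_e_zero hno, mul_zero, pC_swap, pC_e_e, hl] at h1
  simp [e_self] at h1
  exact cast_sign_ne_zero hε h1.symm

lemma nonzero_pair {μ s s' : Fin 27} (hs : s ∈ S) (hs' : s' ∈ S)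
    (h : (link s s').map Prod.fst = [μ]) : act g (e μ) μ ≠ 0 := by
  obtain ⟨⟨y, ε⟩, hl, hy⟩ := List.map_eq_singleton_iff.1 h
  simp only at hy
  subst hy
  obtain ⟨c, -, hc⟩ := hf s hs
  obtain ⟨d, -, hd⟩ := hf s' hs'
  intro h0
  have h1 := pC_act_e hK hg hc (e s') (e y)
  rw [hd, pC, ev_smul₂, ← pC, pC_e_e, pC_e_e, hl] at h1
  simp [e_self, h0] at h1
  exact cast_sign_ne_zero (link_single (show (y, ε) ∈ link s s' by rw [hl]; exact List.mem_singleton_self _)).2.1 h1.symm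

omit hK hg in
lemma nonzero_out {μ : Fin 27} (hμ : μ ∉ S) : ∃ x, x ∉ S ∧ act g (e μ) x ≠ 0 := by
  by_contra hno
  push Not at hno
  have hsum : act g (e μ) = ∑ x, act g (e μ) x • e x := pi_eq_sum_univ' _
  have h1 := congrArg (fun v => (g⁻¹ : GL (Fin 27) K).1.mulVec v μ) hsum
  simp only [Matrix.mulVec_sum, Matrix.mulVec_smul, Finset.sum_apply, Pi.smul_apply,
    smul_eq_mul] at h1
  rw [show (g⁻¹ : GL (Fin 27) K).1.mulVec (act g (e μ)) = e μ from act_inv_act g _, e_self,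
    Finset.sum_eq_zero] at h1
  · exact one_ne_zero h1
  intro x _
  by_cases hx : x ∈ S
  · obtain ⟨c, hc0, hc⟩ := hf x hx
    have h2 := congrArg (act g⁻¹) hc
    rw [act_inv_act, act_smul] at h2
    rw [show (g⁻¹ : GL (Fin 27) K).1.mulVec (e x) = c⁻¹ • e x by
      rw [eq_inv_smul_iff₀ hc0]; exact h2.symm]
    rw [Pi.smul_apply, e_ne (fun hh : μ = x => hμ (hh ▸ hx)), smul_zero, mul_zero]
  · rw [hno x hx, zero_mul]

end CfsgLib.CubicE6
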