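import Cfsg.Agent.Lib.Chev.CubicE6.Reduce

/-!
The translation to the cubic form on three matrices.
-/

set_option autoImplicit false
set_option maxRecDepth 100000

namespace CfsgLib.CubicE6

open Cfsg.Lie CfsgLib.Chev

/-- The position among the three matrices of a coordinate. -/
def sig (a : Fin 27) : I27 :=
  let n := (codeData.getD a.val (0, 1)).1
  (⟨n / 9 % 3, Nat.mod_lt _ (by omega)⟩, ⟨n / 3 % 3, Nat.mod_lt _ (by omega)⟩,
    ⟨n % 3, Nat.mod_lt _ (by omega)⟩)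

/-- The sign of a coordinate. -/
def sgnC (a : Fin 27) : ℤ := (codeData.getD a.val (0, 1)).2

lemma sig_bij : Function.Bijective sig := by decide +kernel

lemma sgnC_sq : ∀ a, sgnC a * sgnC a = 1 := by decide +kernel

/-- The bijection of the coordinates. -/
noncomputable def sigE : Fin 27 ≃ I27 := Equiv.ofBijective sig sig_bij

/-- The monomials in the three matrices. -/
def monT : List (I27 × I27 × I27 × ℤ) :=
  [((0, 0, 0), (0, 1, 1), (0, 2, 2), 1), ((0, 0, 0), (1, 0, 2), (2, 2, 0), -1),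
    ((0, 0, 0), (1, 0, 1), (2, 1, 0), -1), ((0, 0, 0), (1, 0, 0), (2, 0, 0), -1),
    ((0, 0, 0), (0, 2, 1), (0, 1, 2), -1), ((0, 0, 1), (0, 1, 0), (0, 2, 2), -1),
    ((0, 0, 1), (1, 1, 2), (2, 2, 0), -1), ((0, 0, 1), (1, 1, 1), (2, 1, 0), -1),
    ((0, 0, 1), (1, 1, 0), (2, 0, 0), -1), ((0, 0, 1), (0, 2, 0), (0, 1, 2), 1),
    ((2, 0, 2), (1, 2, 0), (0, 2, 2), -1), ((2, 0, 2), (2, 1, 1), (2, 2, 0), -1),
    ((2, 0, 2), (2, 2, 1), (2, 1, 0), 1), ((2, 0, 2), (1, 1, 0), (0, 2, 1), -1),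
    ((2, 0, 2), (1, 0, 0), (0, 2, 0), -1), ((2, 1, 2), (1, 2, 1), (0, 2, 2), -1),
    ((2, 1, 2), (2, 0, 1), (2, 2, 0), 1), ((2, 1, 2), (2, 2, 1), (2, 0, 0), -1),
    ((2, 1, 2), (1, 1, 1), (0, 2, 1), -1), ((2, 1, 2), (1, 0, 1), (0, 2, 0), -1),
    ((1, 2, 2), (2, 2, 2), (0, 2, 2), -1), ((1, 2, 2), (0, 0, 2), (2, 2, 0), -1),
    ((1, 2, 2), (2, 2, 1), (0, 1, 2), -1), ((1, 2, 2), (1, 1, 1), (1, 0, 0), 1),
    ((1, 2, 2), (1, 0, 1), (1, 1, 0), -1), ((2, 2, 2), (2, 0, 1), (2, 1, 0), -1),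
    ((2, 2, 2), (2, 1, 1), (2, 0, 0), 1), ((2, 2, 2), (1, 1, 2), (0, 2, 1), -1),
    ((2, 2, 2), (1, 0, 2), (0, 2, 0), -1), ((1, 2, 1), (0, 0, 2), (2, 1, 0), -1),
    ((1, 2, 1), (2, 1, 1), (0, 1, 2), -1), ((1, 2, 1), (1, 1, 2), (1, 0, 0), -1),
    ((1, 2, 1), (1, 0, 2), (1, 1, 0), 1), ((0, 0, 2), (1, 2, 0), (2, 0, 0), -1),
    ((0, 0, 2), (0, 1, 0), (0, 2, 1), 1), ((0, 0, 2), (0, 1, 1), (0, 2, 0), -1),
    ((1, 2, 0), (2, 0, 1), (0, 1, 2), -1), ((1, 2, 0), (1, 1, 2), (1, 0, 1), 1),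
    ((1, 2, 0), (1, 0, 2), (1, 1, 1), -1), ((2, 0, 1), (0, 1, 0), (1, 0, 0), -1),
    ((2, 0, 1), (0, 1, 1), (1, 1, 0), -1), ((0, 1, 0), (2, 1, 1), (1, 0, 1), -1),
    ((0, 1, 0), (2, 2, 1), (1, 0, 2), -1), ((2, 1, 1), (0, 1, 1), (1, 1, 1), -1),
    ((0, 1, 1), (1, 1, 2), (2, 2, 1), -1)]

lemma monT_eq : (tri.map fun t => (sig t.1, sig t.2.1, sig t.2.2.1,
    t.2.2.2 * (sgnC t.1 * sgnC t.2.1 * sgnC t.2.2.1))) = monT := by decide +kernel

variable {K : Type*} [Field K]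

/-- The change of coordinates. -/
def toC (z : I27 → K) : Fin 27 → K := fun a => (sgnC a : K) * z (sig a)

lemma sgnC_cast (a : Fin 27) : (sgnC a : K) * (sgnC a : K) = 1 := by
  rw [← Int.cast_mul, sgnC_sq, Int.cast_one]

lemma toC_surj : Function.Surjective (toC : (I27 → K) → Fin 27 → K) := fun v =>
  ⟨fun y => (sgnC (sigE.symm y) : K) * v (sigE.symm y), funext fun a => by
    rw [toC, show sigE.symm (sig a) = a from sigE.symm_apply_apply a, ← mul_assoc, sgnC_cast,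
      one_mul]⟩

lemma cub_toC (z : I27 → K) : cub (toC z) = cubicT z := by
  have h : cub (toC z) = ((monT.map fun t => (t.2.2.2 : K) * (z t.1 * z t.2.1 * z t.2.2.1))).sum := by
    rw [← monT_eq, List.map_map]
    refine congrArg List.sum (List.map_congr_left fun t _ => ?_)
    simp only [Function.comp_apply, toC]
    push_cast
    ring
  rw [h]
  simp only [monT, List.map_cons, List.map_nil, List.sum_cons, List.sum_nil, cubicT, mat3,
    Matrix.det_fin_three, Matrix.trace_fin_three, Matrix.mul_apply, Fin.sum_univ_three,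
    Matrix.of_apply]
  push_cast
  ring

/-- The diagonal of signs. -/
noncomputable def sgnD (K : Type*) [Field K] : GL I27 K where
  val := Matrix.diagonal fun y => (sgnC (sigE.symm y) : K)
  inv := Matrix.diagonal fun y => (sgnC (sigE.symm y) : K)
  val_inv := by rw [Matrix.diagonal_mul_diagonal, ← Matrix.diagonal_one]; simp [sgnC_cast]
  inv_val := by rw [Matrix.diagonal_mul_diagonal, ← Matrix.diagonal_one]; simp [sgnC_cast]

/-- The translation of the linear groups. -/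
noncomputable def glE (K : Type*) [Field K] : GL (Fin 27) K ≃* GL I27 K :=
  (Units.mapEquiv (Matrix.reindexAlgEquiv K K sigE).toMulEquiv).trans (MulAut.conj (sgnD K))

lemma toC_glE (g : GL (Fin 27) K) (z : I27 → K) :
    toC ((glE K g : Matrix I27 I27 K).mulVec z) = act g (toC z) := by
  funext a
  have e : (glE K g : Matrix I27 I27 K) = (sgnD K).val *
      Matrix.reindex sigE sigE (g : Matrix (Fin 27) (Fin 27) K) * (sgnD K).inv := rfl
  rw [toC, e, ← Matrix.mulVec_mulVec, ← Matrix.mulVec_mulVec]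
  simp only [sgnD, Matrix.mulVec_diagonal]
  rw [Matrix.reindex_apply, Matrix.submatrix_mulVec_equiv, Function.comp_apply,
    show sigE.symm (sig a) = a from sigE.symm_apply_apply a, ← mul_assoc, sgnC_cast, one_mul, act]
  refine congrFun (congrArg _ (funext fun b => ?_)) a
  simp only [Function.comp_apply, Equiv.symm_symm, Matrix.mulVec_diagonal,
    Equiv.symm_apply_apply, toC]
  rfl

lemma map_cubGroup : (cubGroup K).map (glE K).toMonoidHom = E6univ K := by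
  ext g
  rw [Subgroup.mem_map_equiv]
  obtain ⟨g, rfl⟩ := (glE K).surjective g
  rw [MulEquiv.symm_apply_apply, mem_cubGroup]
  show _ ↔ ∀ z, cubicT ((glE K g : Matrix I27 I27 K).mulVec z) = cubicT z
  simp only [← cub_toC, toC_glE]
  exact ⟨fun h z => h _, fun h v => by obtain ⟨z, rfl⟩ := toC_surj v; exact h z⟩

end CfsgLib.CubicE6
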